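import Cfsg.Agent.H80.Ext.Small
import Cfsg.Agent.H80.Ext.PermFive

/-! Coordinates on the larger centralizer. -/

set_option autoImplicit false
set_option maxRecDepth 20000

namespace Cfsg.Agent.H80.Ext

open Cfsg.Agent.H16 Cfsg.Agent.H68.J1 Cfsg.Agent.H80.Alt
open Cfsg.Agent.H68.J1.Cert (ev)

/-- word of the involution on the first and third pair -/
def xW : List Nat := [0, 2, 2, 1]

/-- word of the involution on the first pair and the two middle letters -/
def yW : List Nat := [7, 3, 5]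

/-- word of the involution on the first and fourth pair -/
def zW : List Nat := [4, 2, 4]

/-- word of the three-cycle on the first three letters -/
def rW : List Nat := [7, 2, 4, 2]

/-- word of the second generator of the four group -/
def vW : List Nat := [4, 2, 4, 2]

theorem word_chk : (sameWord xW (wd xI) && sameWord vW (wd vI) &&
    sameWord (zW ++ zW) [] && sameWord (yW ++ yW) [] && sameWord (xW ++ xW) [] &&
    sameWord (zW ++ wd Alt.tI) (wd Alt.tI ++ zW) && sameWord (yW ++ wd Alt.tI) (wd Alt.tI ++ yW) &&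
    sameWord (xW ++ wd Alt.tI) (wd Alt.tI ++ xW) &&
    sameWord (xW ++ yW ++ xW ++ yW ++ xW ++ yW) [] &&
    sameWord (yW ++ zW ++ yW ++ zW ++ yW ++ zW) [] &&
    sameWord (xW ++ zW ++ xW ++ zW) (xW ++ xW) &&
    sameWord (rW ++ rW ++ rW) [] && sameWord (xW ++ zW) (zW ++ xW)) = true := by
  decide +kernel

theorem distinct_chk :
    sameWord (zW ++ vW ++ zW) vW = false ∧ sameWord (yW ++ vW ++ yW) vW = false ∧
    sameWord (xW ++ vW ++ xW) vW = false ∧ sameWord (xW ++ yW ++ xW ++ yW) [] = false ∧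
    sameWord (yW ++ zW ++ yW ++ zW) [] = false ∧ sameWord (xW ++ zW) [] = false ∧
    allFrom (fun a => imp (inV a) (!sameWord (xW ++ zW) (wd a))) 192 0 = true ∧
    allL (fun a => lettersBelow 8 (wd a)) = true := by
  refine ⟨?_, ?_, ?_, ?_, ?_, ?_, ?_, ?_⟩ <;> decide +kernel

/-- Coordinates for the larger centralizer. -/
structure Coords {G : Type*} [Group G] (E : Emb G) where
  /-- the map onto the symmetric group of five letters -/
  π : E.K →* S5
  surj : Function.Surjective π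
  ker : ∀ u : E.K, π u = 1 ↔ (u : G) = 1 ∨ (u : G) = E.t ∨ (u : G) = E.v ∨ (u : G) = E.v * E.t
  sign : ∀ u : E.K, Equiv.Perm.sign (π u) = 1 ↔ (u : G) * E.v = E.v * u
  π_x : ∀ h, π ⟨E.wv xW, h⟩ = Equiv.swap 0 1
  π_y : ∀ h, π ⟨E.wv yW, h⟩ = Equiv.swap 1 2
  π_z : ∀ h, π ⟨E.wv zW, h⟩ = Equiv.swap 2 3

namespace Emb

variable {G : Type*} [Group G] (E : Emb G)

theorem wv_ne {u w : List Nat} (hu : lettersBelow 8 u = true) (hw : lettersBelow 8 w = true)
    (h : sameWord u w = false) : E.wv u ≠ E.wv w := fun e => by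
  rw [sameWord_of_eq hu hw (E.inj e)] at h
  exact absurd h (by decide)

theorem wv_nil : E.wv [] = 1 := map_one E.φ

theorem wv_v : E.wv vW = E.v := by
  have h := word_chk
  simp only [Bool.and_eq_true] at h
  exact E.wv_eq h.1.1.1.1.1.1.1.1.1.1.1.2

variable [Finite G]

theorem exists_coords (e : E.K ⧸ E.V ≃* S5) : Nonempty (Coords E) := by
  classical
  have hw := word_chk
  simp only [Bool.and_eq_true] at hw
  obtain ⟨⟨⟨⟨⟨⟨⟨⟨⟨⟨⟨⟨hx, hv⟩, hzz⟩, hyy⟩, hxx⟩, hzt⟩, hyt⟩, hxt⟩, hxy⟩, hyz⟩, hxz⟩, hrr⟩, hxzc⟩ := hw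
  obtain ⟨dz, dy, dx, dxy, dyz, dxz, dV, hl⟩ := distinct_chk
  let π0 : E.K →* S5 := e.toMonoidHom.comp (QuotientGroup.mk' E.V)
  have hsurj : Function.Surjective π0 := e.surjective.comp (QuotientGroup.mk'_surjective _)
  have hker : ∀ u : E.K, π0 u = 1 ↔ u ∈ E.V := fun u => by
    show e (QuotientGroup.mk u) = 1 ↔ _
    rw [e.map_eq_one_iff, QuotientGroup.eq_one_iff]
  -- the action on the four group
  have hnc : ∀ u : E.K, ¬ (u : G) * E.v = E.v * u → (u : G) * E.v * (u : G)⁻¹ = E.v * E.t :=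
    fun u hu => (E.conj_v u).resolve_left fun h => hu (mul_inv_eq_iff_eq_mul.mp h)
  have hvt1 : E.v ≠ E.v * E.t := fun h => by
    have := mul_left_cancel ((mul_one E.v).trans h)
    have h2 := E.orderOf_t
    rw [← this, orderOf_one] at h2
    omega
  let χ : E.K →* ℤˣ := MonoidHom.mk' (fun u => if (u : G) * E.v = E.v * u then 1 else -1) (by
    intro a b
    have hat : (a : G) * E.t * (a : G)⁻¹ = E.t := by rw [E.mem_K.mp a.2, mul_inv_cancel_right]
    have hab : ((a * b : E.K) : G) * E.v * ((a * b : E.K) : G)⁻¹ =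
        (a : G) * ((b : G) * E.v * (b : G)⁻¹) * (a : G)⁻¹ := by
      show (a : G) * b * E.v * ((a : G) * b)⁻¹ = _
      group
    have iff' : ∀ u : E.K, (u : G) * E.v = E.v * u ↔ (u : G) * E.v * (u : G)⁻¹ = E.v := fun u =>
      mul_inv_eq_iff_eq_mul.symm
    have avt : (a : G) * (E.v * E.t) * (a : G)⁻¹ = (a : G) * E.v * (a : G)⁻¹ * E.t := by
      calc _ = (a : G) * E.v * (a : G)⁻¹ * ((a : G) * E.t * (a : G)⁻¹) := by group
        _ = _ := by rw [hat]
    by_cases ha : (a : G) * E.v = E.v * a <;> by_cases hb : (b : G) * E.v = E.v * b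
    · rw [if_pos ha, if_pos hb, if_pos, mul_one]
      rw [iff', hab, (iff' b).mp hb, (iff' a).mp ha]
    · rw [if_pos ha, if_neg hb, if_neg, one_mul]
      rw [iff', hab, hnc b hb, avt, (iff' a).mp ha]
      exact hvt1.symm
    · rw [if_neg ha, if_pos hb, if_neg, mul_one]
      rw [iff', hab, (iff' b).mp hb, hnc a ha]
      exact hvt1.symm
    · rw [if_neg ha, if_neg hb, if_pos, neg_mul_neg, one_mul]
      rw [iff', hab, hnc b hb, avt, hnc a ha, mul_assoc, E.t_mul_t, mul_one])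
  have hχV : E.V ≤ χ.ker := fun u hu => by
    rw [MonoidHom.mem_ker]
    refine if_pos ?_
    rcases E.mem_V.mp hu with h | h | h | h <;> rw [h]
    · rw [one_mul, mul_one]
    · exact E.v_facts.2.1.symm
    · exact (mul_assoc E.v E.t E.v).trans (by rw [E.v_facts.2.1.symm])
  let χ5 : S5 →* ℤˣ := (QuotientGroup.lift E.V χ hχV).comp e.symm.toMonoidHom
  have hχ5 : ∀ u, χ5 (π0 u) = χ u := fun u => by
    show QuotientGroup.lift E.V χ hχV (e.symm (e (QuotientGroup.mk u))) = χ u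
    rw [e.symm_apply_apply, QuotientGroup.lift_mk]
  have mk : ∀ w, sameWord (w ++ wd Alt.tI) (wd Alt.tI ++ w) = true → E.wv w ∈ E.K := fun w h =>
    E.mem_K.mpr (by
      show E.wv w * E.wv (wd Alt.tI) = E.wv (wd Alt.tI) * E.wv w
      rw [← E.wv_append, ← E.wv_append]
      exact E.wv_eq h)
  let xK : E.K := ⟨E.wv xW, mk _ hxt⟩
  let yK : E.K := ⟨E.wv yW, mk _ hyt⟩
  let zK : E.K := ⟨E.wv zW, mk _ hzt⟩
  have hχneg : ∀ (w : List Nat) (h : E.wv w ∈ E.K), sameWord (w ++ w) [] = true →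
      lettersBelow 8 (w ++ vW ++ w) = true → sameWord (w ++ vW ++ w) vW = false →
      χ ⟨E.wv w, h⟩ = -1 := by
    intro w h h2 hl' hne
    refine if_neg fun hc => E.wv_ne hl' (by decide) hne ?_
    have hww : E.wv w * E.wv w = 1 := by rw [← E.wv_append]; exact E.wv_one h2
    rw [E.wv_append, E.wv_append, E.wv_v, show E.wv w * E.v = E.v * E.wv w from hc, mul_assoc, hww,
      mul_one]
  have χx := hχneg xW (mk _ hxt) hxx (by decide) dx
  have χy := hχneg yW (mk _ hyt) hyy (by decide) dy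
  have χz := hχneg zW (mk _ hzt) hzz (by decide) dz
  have hsgn : χ5 = Equiv.Perm.sign := by
    refine Equiv.Perm.eq_sign_of_surjective_hom fun ε => ?_
    rcases Int.units_eq_one_or ε with rfl | rfl
    · exact ⟨1, map_one _⟩
    · exact ⟨π0 xK, by rw [hχ5]; exact χx⟩
  have hsign : ∀ u, Equiv.Perm.sign (π0 u) = χ u := fun u => by rw [← hsgn, hχ5]
  have πsq : ∀ (w : List Nat) (h : E.wv w ∈ E.K), sameWord (w ++ w) [] = true →
      π0 ⟨E.wv w, h⟩ * π0 ⟨E.wv w, h⟩ = 1 := fun w h h2 => by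
    rw [← map_mul, show (⟨E.wv w, h⟩ : E.K) * ⟨E.wv w, h⟩ = 1 from Subtype.ext (by
      show E.wv w * E.wv w = 1
      rw [← E.wv_append]; exact E.wv_one h2), map_one]
  have ab3 : π0 xK * π0 yK * (π0 xK * π0 yK) * (π0 xK * π0 yK) = 1 := by
    simp only [← map_mul]
    rw [show xK * yK * (xK * yK) * (xK * yK) = 1 from Subtype.ext (by
      show E.wv xW * E.wv yW * (E.wv xW * E.wv yW) * (E.wv xW * E.wv yW) = 1
      simp only [← mul_assoc, ← E.wv_append]
      exact E.wv_one hxy), map_one]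
  have bc3 : π0 yK * π0 zK * (π0 yK * π0 zK) * (π0 yK * π0 zK) = 1 := by
    simp only [← map_mul]
    rw [show yK * zK * (yK * zK) * (yK * zK) = 1 from Subtype.ext (by
      show E.wv yW * E.wv zW * (E.wv yW * E.wv zW) * (E.wv yW * E.wv zW) = 1
      simp only [← mul_assoc, ← E.wv_append]
      exact E.wv_one hyz), map_one]
  have ac2 : π0 xK * π0 zK * (π0 xK * π0 zK) = 1 := by
    simp only [← map_mul]
    rw [show xK * zK * (xK * zK) = 1 from Subtype.ext (by
      show E.wv xW * E.wv zW * (E.wv xW * E.wv zW) = 1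
      simp only [← mul_assoc, ← E.wv_append]
      exact (E.wv_eq hxz).trans (E.wv_one hxx)), map_one]
  -- distinct images
  have ne_of : ∀ {a b : E.K}, (a : G) * b * ((a : G) * b) ≠ 1 → π0 a * π0 a = 1 →
      π0 a ≠ π0 b := by
    intro a b hne ha e1
    refine hne (congrArg Subtype.val (E.V_sq (u := a * b) ((hker _).mp ?_)))
    rw [map_mul, ← e1, ha]
  have nab : π0 xK ≠ π0 yK := ne_of (by
    show E.wv xW * E.wv yW * (E.wv xW * E.wv yW) ≠ 1
    simp only [← mul_assoc, ← E.wv_append]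
    rw [← E.wv_nil]
    exact E.wv_ne (by decide) (by decide) dxy) (πsq _ _ hxx)
  have nbc : π0 yK ≠ π0 zK := ne_of (by
    show E.wv yW * E.wv zW * (E.wv yW * E.wv zW) ≠ 1
    simp only [← mul_assoc, ← E.wv_append]
    rw [← E.wv_nil]
    exact E.wv_ne (by decide) (by decide) dyz) (πsq _ _ hyy)
  have nac : π0 xK ≠ π0 zK := fun h => by
    obtain ⟨a, ha, hA, hau⟩ := (hker (xK * zK)).mp (by rw [map_mul, ← h, πsq _ _ hxx])
    have h2 := imp_spec (allFrom_spec dV a (Nat.zero_le a) (by omega)) hA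
    have h3 : E.wv (wd a) = E.wv (xW ++ zW) := by rw [E.wv_append]; exact hau
    rw [sameWord_of_eq (by decide) (allL_spec hl ha) (E.inj h3.symm)] at h2
    exact absurd h2 (by decide)
  obtain ⟨σ, s1, s2, s3⟩ := Ext.exists_coords (πsq _ _ hxx) (πsq _ _ hyy) (πsq _ _ hzz)
    ((hsign xK).trans χx) ((hsign yK).trans χy) ((hsign zK).trans χz) ab3 nab bc3 nbc ac2 nac
  let π : E.K →* S5 := (MulAut.conj σ⁻¹).toMonoidHom.comp π0
  have hπ : ∀ u, π u = σ⁻¹ * π0 u * σ := fun u => by simp [π]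
  refine ⟨⟨π, fun y => ?_, fun u => ?_, fun u => ?_, fun h => ?_, fun h => ?_, fun h => ?_⟩⟩
  · obtain ⟨u, hu⟩ := hsurj (σ * y * σ⁻¹)
    exact ⟨u, by rw [hπ, hu]; group⟩
  · rw [hπ, ← E.mem_V, ← hker]
    constructor
    · intro h
      calc π0 u = σ * (σ⁻¹ * π0 u * σ) * σ⁻¹ := by group
        _ = 1 := by rw [h]; group
    · intro h; rw [h]; group
  · rw [hπ, map_mul, map_mul, mul_right_comm, ← map_mul, inv_mul_cancel, map_one, one_mul, hsign]
    show (if _ then (1 : ℤˣ) else -1) = 1 ↔ _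
    split_ifs with h
    · exact iff_of_true rfl h
    · exact iff_of_false (by decide) h
  · rw [hπ, show π0 ⟨E.wv xW, h⟩ = σ * Equiv.swap 0 1 * σ⁻¹ from s1.symm]; group
  · rw [hπ, show π0 ⟨E.wv yW, h⟩ = σ * Equiv.swap 1 2 * σ⁻¹ from s2.symm]; group
  · rw [hπ, show π0 ⟨E.wv zW, h⟩ = σ * Equiv.swap 2 3 * σ⁻¹ from s3.symm]; group

end Emb

end Cfsg.Agent.H80.Ext
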