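import Cfsg.Agent.H80.Ext.Local
import Cfsg.Agent.S0223
import Cfsg.Agent.S1225

/-! A subgroup containing both involution centralizers is the whole group. -/

set_option autoImplicit false

namespace Cfsg.Agent.H80.Ext

open Cfsg.Agent.H16 Cfsg.Agent.H80.Alt

namespace Emb

variable {G : Type*} [Group G] (E : Emb G) [Finite G]

/-- A subgroup containing the alternating group and the centralizer of `t` is everything. -/
theorem eq_top_of_centralizer (J : Subgroup G) (hH : E.φ.range ≤ J)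
    (hK : Subgroup.centralizer ({E.t} : Set G) ≤ J) : J = ⊤ := by
  haveI := Fact.mk Nat.prime_two
  by_contra hJ
  obtain ⟨P, hPle, hP⟩ := E.exists_sylow
  have hL : Subgroup.centralizer ({E.s} : Set G) ≤ J := fun u hu =>
    hH (E.mem_range_of_comm (comm_of_mem hu))
  have hPJ : (P : Subgroup G) ≤ J := hPle.trans hL
  have sJ : E.s ∈ J := hH (E.el_mem _)
  have tJ : E.t ∈ J := hH (E.el_mem _)
  have repr : ∀ u ∈ J, orderOf u = 2 → ∃ k ∈ J, k * u * k⁻¹ = E.s ∨ k * u * k⁻¹ = E.t := by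
    intro u huJ hu
    obtain ⟨R, hR⟩ := (IsPGroup.of_card (p := 2) (n := 1) (G := Subgroup.zpowers (⟨u, huJ⟩ : J))
      (by rw [Nat.card_zpowers, Subgroup.orderOf_mk, hu, pow_one])).exists_le_sylow
    obtain ⟨g, hg⟩ := MulAction.exists_smul_eq J R (P.subtype hPJ)
    have hmem : g * ⟨u, huJ⟩ * g⁻¹ ∈ ((P.subtype hPJ : Sylow 2 J) : Subgroup J) := by
      rw [← hg, Sylow.coe_subgroup_smul]
      exact ⟨_, hR (Subgroup.mem_zpowers _), rfl⟩
    rw [Sylow.coe_subtype, Subgroup.mem_subgroupOf] at hmem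
    simp only [Subgroup.coe_mul, Subgroup.coe_inv] at hmem
    obtain ⟨a, ha, hae⟩ := E.el_surj (comm_of_mem (hPle hmem))
    have h0 : Alt.cls a ≠ 0 := (E.orderOf_el ha).mp (by
      rw [hae]; exact ((MulAut.conj (g : G)).orderOf_eq u).trans hu)
    obtain ⟨k, hk, hke⟩ := E.conj_std ha h0
    refine ⟨k * g, J.mul_mem (hH hk) g.2, ?_⟩
    rw [show k * (g : G) * u * (k * (g : G))⁻¹ = k * ((g : G) * u * (g : G)⁻¹) * k⁻¹ by group,
      ← hae, hke]
    cases sType a
    · exact Or.inr rfl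
    · exact Or.inl rfl
  have back : ∀ (u k : G), k ∈ J → ∀ r : G, k * u * k⁻¹ = r →
      Subgroup.centralizer ({r} : Set G) ≤ J → Subgroup.centralizer ({u} : Set G) ≤ J := by
    intro u k hk r hr hCr w hw
    have : k * w * k⁻¹ ∈ J := hCr (mem_centralizer_of (by
      rw [← hr]
      calc k * w * k⁻¹ * (k * u * k⁻¹) = k * (w * u) * k⁻¹ := by group
        _ = k * (u * w) * k⁻¹ := by rw [comm_of_mem hw]
        _ = _ := by group))
    rwa [J.mul_mem_cancel_right (inv_mem hk), J.mul_mem_cancel_left hk] at this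
  have hcent : ∀ u ∈ J, orderOf u = 2 → Subgroup.centralizer ({u} : Set G) ≤ J := by
    intro u huJ hu
    obtain ⟨k, hk, h | h⟩ := repr u huJ hu
    · exact back u k hk _ h hL
    · exact back u k hk _ h hK
  have hfus : ∀ u ∈ J, ∀ w ∈ J, orderOf u = 2 → orderOf w = 2 → IsConj u w →
      ∃ h ∈ J, h * u * h⁻¹ = w := by
    intro u huJ w hwJ hu hw hconj
    obtain ⟨k, hk, hk'⟩ := repr u huJ hu
    obtain ⟨m, hm, hm'⟩ := repr w hwJ hw
    have c1 : IsConj (k * u * k⁻¹) (m * w * m⁻¹) :=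
      ((isConj_iff.mpr ⟨k, rfl⟩ : IsConj u _).symm.trans hconj).trans (isConj_iff.mpr ⟨m, rfl⟩)
    refine ⟨m⁻¹ * k, mul_mem (inv_mem hm) hk, ?_⟩
    have e : m * w * m⁻¹ = k * u * k⁻¹ := by
      rcases hk' with h1 | h1 <;> rcases hm' with h2 | h2 <;> rw [h1, h2] <;>
        rw [h1, h2] at c1
      · exact absurd c1 E.not_isConj
      · exact absurd c1.symm E.not_isConj
    calc _ = m⁻¹ * (k * u * k⁻¹) * m := by group
      _ = _ := by rw [← e]; group
  have heven : Even (Nat.card J) := even_iff_two_dvd.mpr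
    (((show (2 : ℕ) ∣ 64 by norm_num).trans (dvd_of_eq hP.symm)).trans
      (Subgroup.card_dvd_of_le hPJ))
  have hSE := (S0223.result J hJ heven).mpr ⟨hcent, hfus⟩
  obtain ⟨u, hu, huJ⟩ : ∃ u, orderOf u = 2 ∧ u ∉ J := by
    by_contra hcon
    push Not at hcon
    apply hJ
    rw [eq_top_iff]
    intro g _
    have h1 : g * E.s * g⁻¹ ∈ J := hcon _ (((MulAut.conj g).orderOf_eq E.s).trans E.orderOf_s)
    obtain ⟨k, hk, hke⟩ := hfus E.s sJ _ h1 E.orderOf_s
      (((MulAut.conj g).orderOf_eq E.s).trans E.orderOf_s) (isConj_iff.mpr ⟨g, rfl⟩)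
    have : k⁻¹ * g ∈ J := hL (mem_centralizer_of (by
      calc k⁻¹ * g * E.s = k⁻¹ * (g * E.s * g⁻¹) * g := by group
        _ = k⁻¹ * (k * E.s * k⁻¹) * g := by rw [hke]
        _ = E.s * (k⁻¹ * g) := by group))
    simpa using mul_mem hk this
  exact E.not_isConj ((S1225.result J hSE u hu huJ E.s E.t E.orderOf_s sJ E.orderOf_t tJ).2
    E.s E.t E.orderOf_s E.orderOf_t)

end Emb

end Cfsg.Agent.H80.Ext
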