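import Cfsg.Agent.H80.Ext.Inversion
import Cfsg.Agent.H28.ZStar
import Cfsg.Agent.H19.Cores
import Cfsg.Agent.H44.TISylow
import Cfsg.Agent.S3035

/-! The structure of the centralizer of `t`. -/

set_option autoImplicit false
set_option maxRecDepth 20000

namespace Cfsg.Agent.H80.Ext

open Cfsg.Agent.H16 Cfsg.Agent.H68.J1 Cfsg.Agent.H80.Alt

/-- membership in the four group -/
noncomputable def inV (a : Nat) : Bool :=
  Nat.beq a 0 || Nat.beq a Alt.tI || Nat.beq a vI || Nat.beq a 76

theorem V_chk : allL (fun a => imp (inV a) (Alt.commB a Alt.tI &&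
    allL (fun b => imp (inV b) (inV (Alt.mul a b) && Alt.commB a b) ) &&
    inV (Alt.inv a) && Nat.beq (Alt.mul a a) 0 && inV (Alt.mul a Alt.tI))) = true := by
  decide +kernel

/-- representatives of the dihedral group modulo the four group -/
def dRep : DihedralGroup 4 → Nat
  | DihedralGroup.r i => [0, 6, 1, 7].getD i.val 0
  | DihedralGroup.sr i => [2, 4, 3, 5].getD i.val 0

/-- the elements of the dihedral group -/
def dList : List (DihedralGroup 4) :=
  [.r 0, .r 1, .r 2, .r 3, .sr 0, .sr 1, .sr 2, .sr 3]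

theorem dRep_chk :
    (∀ d ∈ dList, dRep d < 192 ∧ Alt.commB (dRep d) Alt.tI = true) ∧
    (∀ d ∈ dList, inV (dRep d) = true → d = DihedralGroup.r 0) ∧
    (∀ d ∈ dList, ∀ d' ∈ dList,
      inV (Alt.mul (Alt.mul (dRep d) (dRep d')) (Alt.inv (dRep (d * d')))) = true) ∧
    allL (fun a => imp (Alt.commB a Alt.tI)
      (dList.any fun d => inV (Alt.mul (Alt.inv (dRep d)) a))) = true := by
  refine ⟨?_, ?_, ?_, ?_⟩ <;> decide +kernel

theorem mem_dList : ∀ d : DihedralGroup 4, d ∈ dList := by decide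

theorem T_card_chk : countFrom (fun c => Alt.commB c Alt.tI && Alt.commB c Alt.sI) 192 0 = 32 := by
  decide +kernel

theorem sv_chk : (sType (Alt.mul Alt.sI vI) && sType (Alt.mul Alt.sI 76) &&
    !sType (Alt.mul Alt.sI Alt.tI) && sType Alt.sI && !Nat.beq (Alt.cls (Alt.mul Alt.sI Alt.tI)) 0 &&
    Nat.beq (Alt.mul (Alt.mul Alt.sI vI) Alt.tI) (Alt.mul Alt.sI 76) &&
    Nat.beq (Alt.mul (Alt.mul Alt.sI 76) Alt.tI) (Alt.mul Alt.sI vI) &&
    !Nat.beq (Alt.cls (Alt.mul Alt.sI vI)) 0 && !Nat.beq (Alt.cls (Alt.mul Alt.sI 76)) 0 &&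
    !inV Alt.sI) = true := by
  decide +kernel

theorem zmod_two_one : ∀ r : ZMod 2, r ≠ 0 → r = 1 := by decide

namespace Emb

variable {G : Type*} [Group G] (E : Emb G) [Finite G]

/-- the part of the centralizer of `t` in that of `s` -/
noncomputable def T : Subgroup G := E.cent3 Alt.tI Alt.sI

theorem mem_T {u : G} : u ∈ E.T ↔ u * E.t = E.t * u ∧ u * E.s = E.s * u :=
  ⟨fun h => ⟨comm_of_mem h.2.1, comm_of_mem h.1⟩,
    fun h => ⟨mem_centralizer_of h.2, mem_centralizer_of h.1, mem_centralizer_of h.2⟩⟩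

theorem card_T : Nat.card E.T = 32 := by
  rw [T, E.card_cent3 (by decide) (by decide), T_card_chk]

theorem T_le : E.T ≤ E.K := fun _ h => E.mem_K.mpr (E.mem_T.mp h).1

/-- A two-group in the centralizer of `t` is conjugate into `T`. -/
theorem conj_into_T {P : Subgroup E.K} (hP : IsPGroup 2 P) :
    ∃ k : E.K, ∀ u ∈ P, ((k * u * k⁻¹ : E.K) : G) ∈ E.T := by
  haveI := Fact.mk Nat.prime_two
  obtain ⟨R, hR⟩ := (IsPGroup.of_card (p := 2) (n := 5) (G := E.T.subgroupOf E.K)
    (by rw [Nat.card_congr (Subgroup.subgroupOfEquivOfLe E.T_le).toEquiv, E.card_T]; norm_num)).exists_le_sylow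
  have hle : Nat.card (R : Subgroup E.K) ≤ 32 := by
    rw [Nat.card_congr (Subgroup.equivMapOfInjective _ _ E.K.subtype_injective).toEquiv]
    refine E.card_le_32 (R.2.map _) ?_
    rintro _ ⟨w, -, rfl⟩
    exact E.mem_K.mp w.2
  have heq : E.T.subgroupOf E.K = R := Subgroup.eq_of_le_of_card_ge hR (by
    rw [Nat.card_congr (Subgroup.subgroupOfEquivOfLe E.T_le).toEquiv, E.card_T]; exact hle)
  obtain ⟨R', hR'⟩ := hP.exists_le_sylow
  obtain ⟨k, hk⟩ := MulAction.exists_smul_eq E.K R' R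
  refine ⟨k, fun u hu => ?_⟩
  have h : k * u * k⁻¹ ∈ (R : Subgroup E.K) := by
    rw [← hk, Sylow.coe_subgroup_smul]
    exact ⟨u, hR' hu, rfl⟩
  rw [← heq] at h
  exact h

theorem el_V {u : G} : (u = 1 ∨ u = E.t ∨ u = E.v ∨ u = E.v * E.t) ↔
    ∃ a, a < 192 ∧ inV a = true ∧ E.el a = u := by
  constructor
  · rintro (rfl | rfl | rfl | rfl)
    · exact ⟨0, by norm_num, rfl, E.el_zero⟩
    · exact ⟨Alt.tI, by decide, by decide +kernel, rfl⟩
    · exact ⟨vI, by decide, by decide +kernel, rfl⟩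
    · exact ⟨76, by norm_num, by decide +kernel, E.el_vt⟩
  · rintro ⟨a, -, h, rfl⟩
    simp only [inV, Bool.or_eq_true] at h
    rcases h with ((h | h) | h) | h <;> rw [Nat.eq_of_beq_eq_true h]
    · exact Or.inl E.el_zero
    · exact Or.inr (Or.inl rfl)
    · exact Or.inr (Or.inr (Or.inl rfl))
    · exact Or.inr (Or.inr (Or.inr E.el_vt))

theorem v_mem_K : E.v ∈ E.K := E.mem_K.mpr E.v_facts.2.1

theorem t_mem_K : E.t ∈ E.K := E.mem_K.mpr rfl

/-- The four group is normal in the centralizer of `t`. -/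
theorem conj_v (k : E.K) :
    (k : G) * E.v * (k : G)⁻¹ = E.v ∨ (k : G) * E.v * (k : G)⁻¹ = E.v * E.t := by
  classical
  haveI := Fact.mk Nat.prime_two
  let tK : E.K := ⟨E.t, E.t_mem_K⟩
  let Z := Subgroup.zpowers tK
  haveI hZn : Z.Normal := ⟨fun n hn g => by
    obtain ⟨i, rfl⟩ := hn
    refine ⟨i, ?_⟩
    show tK ^ i = g * tK ^ i * g⁻¹
    have hc : Commute g tK := Subtype.ext (E.mem_K.mp g.2)
    rw [(hc.zpow_right i).eq, mul_inv_cancel_right]⟩
  let q := QuotientGroup.mk' Z
  have htt : tK * tK = 1 := Subtype.ext E.t_mul_t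
  have hker : ∀ r : E.K, q r = 1 → r = 1 ∨ r = tK := by
    intro r hr
    obtain ⟨i, rfl⟩ := (QuotientGroup.eq_one_iff r).mp hr
    show tK ^ i = 1 ∨ tK ^ i = tK
    rcases Int.even_or_odd i with ⟨j, rfl⟩ | ⟨j, rfl⟩
    · left; rw [zpow_add, ← (Commute.refl tK).mul_zpow, htt, one_zpow]
    · right; rw [zpow_add, two_mul, zpow_add, ← (Commute.refl tK).mul_zpow, htt, one_zpow,
        one_mul, zpow_one]
  have hodd := fun (N : Subgroup (E.K ⧸ Z)) (hN : N.Normal) (ho : Odd (Nat.card N)) =>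
    E.odd_normal_eq_bot q (QuotientGroup.mk'_surjective _)
      (fun r hr => ⟨1, by
        rcases hker r hr with rfl | rfl
        · simp
        · rw [pow_one, pow_two, htt]⟩)
      (fun r hr m _ => by
        rcases hker r hr with rfl | rfl
        · simp
        · exact Subtype.ext (E.mem_K.mp m.2).symm)
      (fun h => (QuotientGroup.eq_one_iff _).mpr (Subgroup.mem_zpowers tK)) N ho
  let vK : E.K := ⟨E.v, E.v_mem_K⟩
  have hvv : vK * vK = 1 := Subtype.ext E.v_facts.1
  have hv1 : q vK ≠ 1 := fun h => by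
    rcases hker _ h with e | e
    · exact absurd (E.el_inj (a := vI) (b := 0) (by decide) (by norm_num)
        ((congrArg Subtype.val e).trans E.el_zero.symm)) (by decide)
    · exact absurd (E.el_inj (a := vI) (b := Alt.tI) (by decide) (by decide)
        (congrArg Subtype.val e)) (by decide)
  have hord : orderOf (q vK) = 2 :=
    orderOf_eq_prime (by rw [pow_two, ← map_mul, hvv, map_one]) hv1
  have hinto : ∀ k : E.K, ((k * vK * k⁻¹ : E.K) : G) ∈ E.T → q (k * vK * k⁻¹) = q vK := by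
    intro k hk
    rcases E.weakly_closed (E.mem_K.mp k.2) (E.mem_T.mp hk).2 with e | e
    · rw [show k * vK * k⁻¹ = vK from Subtype.ext e]
    · rw [show k * vK * k⁻¹ = vK * tK from Subtype.ext e, map_mul,
        show q tK = 1 from (QuotientGroup.eq_one_iff _).mpr (Subgroup.mem_zpowers tK), mul_one]
  have hiso : H28.IsIsolatedInvolution (q vK) := by
    refine ⟨hord, fun g hg => ?_⟩
    obtain ⟨g0, rfl⟩ := QuotientGroup.mk'_surjective Z g
    set w := g0 * vK * g0⁻¹ with hw
    have hww : w * w = 1 := by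
      rw [hw]
      calc g0 * vK * g0⁻¹ * (g0 * vK * g0⁻¹) = g0 * (vK * vK) * g0⁻¹ := by group
        _ = 1 := by rw [hvv]; group
    let P := Subgroup.closure ({tK, vK, w} : Set E.K)
    have hPq : IsPGroup 2 (P.map q) := by
      have hc : Commute (q w) (q vK) := by
        show q w * q vK = q vK * q w
        rw [hw, map_mul, map_mul, map_inv]
        first
          | exact hg.eq
          | exact hg.eq.symm
      have hab : ∀ a ∈ ({q tK, q vK, q w} : Set (E.K ⧸ Z)), a * a = 1 := by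
        rintro a (rfl | rfl | rfl) <;> rw [← map_mul]
        · rw [htt, map_one]
        · rw [hvv, map_one]
        · rw [hww, map_one]
      have ht1 : q tK = 1 := (QuotientGroup.eq_one_iff _).mpr (Subgroup.mem_zpowers tK)
      intro a
      refine ⟨1, Subtype.ext ?_⟩
      have ha : (a : E.K ⧸ Z) ∈ Subgroup.closure (q '' {tK, vK, w}) := by
        rw [← MonoidHom.map_closure]; exact a.2
      rw [Set.image_insert_eq, Set.image_pair] at ha
      have : (a : E.K ⧸ Z) * a = 1 ∧ Commute (a : E.K ⧸ Z) (q vK) ∧ Commute (a : E.K ⧸ Z) (q w) := by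
        refine Subgroup.closure_induction (p := fun z _ => z * z = 1 ∧ Commute z (q vK) ∧ Commute z (q w))
          (fun z hz => ⟨hab z hz, ?_⟩) ⟨one_mul 1, Commute.one_left _, Commute.one_left _⟩
          (fun z z' hz hz' h h' => ⟨?_, h.2.1.mul_left h'.2.1, h.2.2.mul_left h'.2.2⟩)
          (fun z _ h => ⟨by rw [← mul_inv_rev, h.1, inv_one], h.2.1.inv_left, h.2.2.inv_left⟩) ha
        · rcases hz with rfl | rfl | rfl
          · rw [ht1]; exact ⟨Commute.one_left _, Commute.one_left _⟩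
          · exact ⟨Commute.refl _, hc.symm⟩
          · exact ⟨hc, Commute.refl _⟩
        · have hzz : Commute z z' := by
            refine Subgroup.closure_induction (p := fun u _ => Commute z u) (fun u hu => ?_)
              (Commute.one_right _) (fun _ _ _ _ a b => a.mul_right b) (fun _ _ a => a.inv_right) hz'
            rcases hu with rfl | rfl | rfl
            · rw [ht1]; exact Commute.one_right _
            · exact h.2.1
            · exact h.2.2
          calc z * z' * (z * z') = z * (z' * z) * z' := by simp only [mul_assoc]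
            _ = (z * z) * (z' * z') := by rw [← hzz.eq]; simp only [mul_assoc]
            _ = 1 := by rw [h.1, h'.1, one_mul]
      show ((a : E.K ⧸ Z)) ^ 2 ^ 1 = 1
      rw [pow_one, pow_two]
      exact this.1
    have hP : IsPGroup 2 P := by
      intro a
      obtain ⟨j, hj⟩ := hPq ⟨q a, ⟨a, a.2, rfl⟩⟩
      have hj' : q ((a : E.K) ^ 2 ^ j) = 1 := by rw [map_pow]; exact congrArg Subtype.val hj
      refine ⟨j + 1, Subtype.ext ?_⟩
      show (a : E.K) ^ 2 ^ (j + 1) = 1
      rw [pow_succ, pow_mul, pow_two]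
      rcases hker _ hj' with e | e <;> rw [e]
      · simp
      · exact htt
    obtain ⟨k, hk⟩ := E.conj_into_T hP
    have h1 := hk vK (Subgroup.subset_closure (by simp))
    have h2 := hk w (Subgroup.subset_closure (by simp))
    rw [show k * w * k⁻¹ = k * g0 * vK * (k * g0)⁻¹ by rw [hw]; group] at h2
    have e1 := hinto _ h1
    have e2 := hinto _ h2
    rw [← e1] at e2
    simp only [map_mul, map_inv] at e2
    have e3 : q g0 * q vK * (q g0)⁻¹ = q vK := by
      calc q g0 * q vK * (q g0)⁻¹ = (q k)⁻¹ * (q k * q g0 * q vK * (q k * q g0)⁻¹) * q k := by group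
        _ = (q k)⁻¹ * (q k * q vK * (q k)⁻¹) * q k := by rw [e2]
        _ = _ := by group
    exact e3
  have hz := H28.zStar hiso (q k)
  haveI hn : (Cfsg.pPrimeCore 2 (E.K ⧸ Z)).Normal := H19.pPrimeCore_normal 2 _
  rw [hodd _ hn (Nat.coprime_two_right.mp (H44.pPrimeCore_card_coprime' (G := E.K ⧸ Z) 2)),
    Subgroup.mem_bot] at hz
  have hkv : q (k * vK * k⁻¹ * vK⁻¹) = 1 := by
    simp only [map_mul, map_inv]
    have h3 : q vK * q k = q k * q vK := by
      calc q vK * q k = (q vK * q k * (q vK)⁻¹ * (q k)⁻¹) * (q k * q vK) := by group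
        _ = q k * q vK := by rw [hz, one_mul]
    calc q k * q vK * (q k)⁻¹ * (q vK)⁻¹ = q vK * q k * (q k)⁻¹ * (q vK)⁻¹ := by rw [h3]
      _ = 1 := by group
  rcases hker _ hkv with e | e
  · left
    exact congrArg Subtype.val (mul_inv_eq_one.mp e)
  · right
    have := congrArg Subtype.val (mul_inv_eq_iff_eq_mul.mp e)
    rw [show ((tK * vK : E.K) : G) = E.v * E.t from E.v_facts.2.1.symm] at this
    exact this

/-- the four group in the centralizer of `t` -/
noncomputable def V : Subgroup E.K where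
  carrier := {u | ∃ a, a < 192 ∧ inV a = true ∧ E.el a = (u : G)}
  one_mem' := ⟨0, by norm_num, rfl, E.el_zero⟩
  mul_mem' := by
    rintro u w ⟨a, ha, hA, hua⟩ ⟨b, hb, hB, hwb⟩
    have h := Alt.imp_spec (allL_spec V_chk ha) hA
    simp only [Bool.and_eq_true] at h
    have h2 := Alt.imp_spec (allL_spec h.1.1.1.2 hb) hB
    rw [Bool.and_eq_true] at h2
    exact ⟨Alt.mul a b, mul_lt ha hb, h2.1, by
      rw [E.el_mul ha hb, hua, hwb]; rfl⟩
  inv_mem' := by
    rintro u ⟨a, ha, hA, hua⟩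
    have h := Alt.imp_spec (allL_spec V_chk ha) hA
    simp only [Bool.and_eq_true] at h
    exact ⟨Alt.inv a, Alt.inv_lt ha, h.1.1.2, by
      rw [← E.ι_eq (Alt.inv_lt ha), E.F.map_inv ha, E.ι_eq ha, hua]; rfl⟩

theorem mem_V {u : E.K} : u ∈ E.V ↔
    (u : G) = 1 ∨ (u : G) = E.t ∨ (u : G) = E.v ∨ (u : G) = E.v * E.t := E.el_V.symm

instance V_normal : E.V.Normal := by
  refine ⟨fun u hu g => E.mem_V.mpr ?_⟩
  have hg : (g : G) * E.t * (g : G)⁻¹ = E.t := by
    rw [E.mem_K.mp g.2, mul_inv_cancel_right]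
  show (g : G) * u * (g : G)⁻¹ = 1 ∨ (g : G) * u * (g : G)⁻¹ = E.t ∨
    (g : G) * u * (g : G)⁻¹ = E.v ∨ (g : G) * u * (g : G)⁻¹ = E.v * E.t
  rcases E.mem_V.mp hu with e | e | e | e
  · left; rw [e]; group
  · right; left; rw [e]; exact hg
  · rcases E.conj_v g with h | h
    · right; right; left; rw [e]; exact h
    · right; right; right; rw [e]; exact h
  · have e2 : (g : G) * (E.v * E.t) * (g : G)⁻¹ = (g : G) * E.v * (g : G)⁻¹ * E.t := by
      calc _ = (g : G) * E.v * (g : G)⁻¹ * ((g : G) * E.t * (g : G)⁻¹) := by group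
        _ = _ := by rw [hg]
    rcases E.conj_v g with h | h
    · right; right; right; rw [e, e2, h]
    · right; right; left; rw [e, e2, h, mul_assoc, E.t_mul_t, mul_one]

theorem V_sq {u : E.K} (hu : u ∈ E.V) : u * u = 1 := by
  obtain ⟨a, ha, hA, hua⟩ := hu
  have h := Alt.imp_spec (allL_spec V_chk ha) hA
  simp only [Bool.and_eq_true] at h
  exact Subtype.ext (by
    show (u : G) * u = 1
    rw [← hua, ← E.el_mul ha ha, Nat.eq_of_beq_eq_true h.1.2, E.el_zero])

/-- elements of odd order centralise the four group -/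
theorem V_comm_odd {u : E.K} (hu : u ∈ E.V) {m : E.K} (hm : Odd (orderOf m)) : u * m = m * u := by
  have hsq : ∀ g : E.K, g * g * u * (g * g)⁻¹ = u := by
    intro g
    have hg : (g : G) * E.t * (g : G)⁻¹ = E.t := by
      rw [E.mem_K.mp g.2, mul_inv_cancel_right]
    have hv : (g : G) * g * E.v * ((g : G) * g)⁻¹ = E.v := by
      calc _ = (g : G) * ((g : G) * E.v * (g : G)⁻¹) * (g : G)⁻¹ := by group
        _ = E.v := by
          rcases E.conj_v g with h | h <;> rw [h]
          · exact h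
          · calc (g : G) * (E.v * E.t) * (g : G)⁻¹ = (g : G) * E.v * (g : G)⁻¹ * ((g : G) * E.t * (g : G)⁻¹) := by group
              _ = _ := by rw [h, hg, mul_assoc, E.t_mul_t, mul_one]
    have ht : (g : G) * g * E.t * ((g : G) * g)⁻¹ = E.t := by
      calc _ = (g : G) * ((g : G) * E.t * (g : G)⁻¹) * (g : G)⁻¹ := by group
        _ = _ := by rw [hg, hg]
    refine Subtype.ext ?_
    show (g : G) * g * u * ((g : G) * g)⁻¹ = u
    rcases E.mem_V.mp hu with e | e | e | e <;> rw [e]
    · group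
    · exact ht
    · exact hv
    · calc _ = (g : G) * g * E.v * ((g : G) * g)⁻¹ * ((g : G) * g * E.t * ((g : G) * g)⁻¹) := by group
        _ = _ := by rw [hv, ht]
  obtain ⟨j, hj⟩ := hm
  have e : m = m ^ (j + 1) * m ^ (j + 1) := by
    rw [← pow_add, show j + 1 + (j + 1) = 2 * j + 1 + 1 by omega, ← hj, pow_succ, pow_orderOf_eq_one,
      one_mul]
  have h := hsq (m ^ (j + 1))
  rw [← e] at h
  exact (mul_inv_eq_iff_eq_mul.mp h).symm

theorem s_mem_K : E.s ∈ E.K := E.mem_K.mpr (E.el_comm_s (by decide)).symm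

/-- The quotient of the centralizer of `t` by the four group. -/
theorem quotient_cases :
    Nonempty (E.K ⧸ E.V ≃* Equiv.Perm (Fin 4)) ∨ Nonempty (E.K ⧸ E.V ≃* Equiv.Perm (Fin 5)) := by
  classical
  haveI := Fact.mk Nat.prime_two
  let q := QuotientGroup.mk' E.V
  let sK : E.K := ⟨E.s, E.s_mem_K⟩
  have hodd := fun (N : Subgroup (E.K ⧸ E.V)) (hN : N.Normal) (ho : Odd (Nat.card N)) =>
    E.odd_normal_eq_bot q (QuotientGroup.mk'_surjective _)
      (fun r hr => ⟨1, by rw [pow_one, pow_two]; exact E.V_sq ((QuotientGroup.eq_one_iff r).mp hr)⟩)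
      (fun r hr m hm => E.V_comm_odd ((QuotientGroup.eq_one_iff r).mp hr) hm)
      (fun h => (QuotientGroup.eq_one_iff _).mpr (E.mem_V.mpr (Or.inr (Or.inl rfl)))) N ho
  have hchk := sv_chk
  simp only [Bool.and_eq_true, Bool.not_eq_true'] at hchk
  obtain ⟨⟨⟨⟨⟨⟨⟨⟨⟨c1, c2⟩, c3⟩, c4⟩, c5⟩, c6⟩, c7⟩, c8⟩, c9⟩, c10⟩ := hchk
  have hs : orderOf (q sK) = 2 := by
    refine orderOf_eq_prime ?_ fun h => ?_
    · rw [pow_two, ← map_mul, show sK * sK = 1 from Subtype.ext E.s_mul_s, map_one]
    · obtain ⟨a, ha, hA, hua⟩ := (QuotientGroup.eq_one_iff sK).mp h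
      rw [E.el_inj ha (by decide) (hua : E.el a = E.el Alt.sI)] at hA
      rw [hA] at c10
      exact absurd c10 (by decide)
  -- elements centralising the image of `s` centralise `s`
  have hcent : ∀ k : E.K, q k * q sK = q sK * q k → (k : G) ∈ E.T := by
    intro k hk
    refine E.mem_T.mpr ⟨E.mem_K.mp k.2, ?_⟩
    have hV : sK⁻¹ * (k * sK * k⁻¹) ∈ E.V := by
      refine (QuotientGroup.eq_one_iff _).mp ?_
      show q (sK⁻¹ * (k * sK * k⁻¹)) = 1
      rw [map_mul, map_mul, map_mul, map_inv, map_inv, hk]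
      group
    obtain ⟨a, ha, hA, hua⟩ := hV
    have hsI : Alt.sI < 192 := by decide
    have htI : Alt.tI < 192 := by decide
    have e : (k : G) * E.s * (k : G)⁻¹ = E.el (Alt.mul Alt.sI a) := by
      rw [E.el_mul hsI ha, hua]
      show _ = E.s * (E.s⁻¹ * ((k : G) * E.s * (k : G)⁻¹))
      group
    have hkt : (k : G) * E.t * (k : G)⁻¹ = E.t := by rw [E.mem_K.mp k.2, mul_inv_cancel_right]
    have e' : (k : G) * E.el (Alt.mul Alt.sI Alt.tI) * (k : G)⁻¹ =
        E.el (Alt.mul (Alt.mul Alt.sI a) Alt.tI) := by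
      rw [E.el_mul hsI htI, E.el_mul (mul_lt hsI ha) htI, ← e]
      calc (k : G) * (E.s * E.t) * (k : G)⁻¹
          = (k : G) * E.s * (k : G)⁻¹ * ((k : G) * E.t * (k : G)⁻¹) := by group
        _ = _ := by rw [hkt]; rfl
    have nost : ∀ b, b < 192 → Alt.cls b ≠ 0 → sType b = true →
        ¬ IsConj (E.el (Alt.mul Alt.sI Alt.tI)) (E.el b) := by
      intro b hb hb0 hbs hc
      have hst0 : Alt.cls (Alt.mul Alt.sI Alt.tI) ≠ 0 := fun e => by simp [e] at c5
      have := (E.isConj_s_iff (mul_lt hsI htI) hst0).mp (((E.isConj_s_iff hb hb0).mpr hbs).trans hc.symm)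
      rw [c3] at this
      exact absurd this (by decide)
    simp only [inV, Bool.or_eq_true] at hA
    rcases hA with ((h | h) | h) | h <;> rw [Nat.eq_of_beq_eq_true h] at e e'
    · rw [(inv_facts hsI).2.2.2] at e
      exact mul_inv_eq_iff_eq_mul.mp e
    · exfalso
      have hst0 : Alt.cls (Alt.mul Alt.sI Alt.tI) ≠ 0 := fun e => by simp [e] at c5
      have := (E.isConj_s_iff (mul_lt hsI htI) hst0).mp (isConj_iff.mpr ⟨k, e⟩)
      rw [c3] at this
      exact absurd this (by decide)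
    · exfalso
      rw [Nat.eq_of_beq_eq_true c6] at e'
      exact nost _ (mul_lt hsI (by norm_num)) (fun e => by simp [e] at c9) c2
        (isConj_iff.mpr ⟨k, e'⟩)
    · exfalso
      rw [Nat.eq_of_beq_eq_true c7] at e'
      exact nost _ (mul_lt hsI (by decide)) (fun e => by simp [e] at c8) c1
        (isConj_iff.mpr ⟨k, e'⟩)
  obtain ⟨dlt, dker, dmul, dsurj⟩ := dRep_chk
  let rep : DihedralGroup 4 → E.K := fun d =>
    E.elK (dRep d) (dlt d (mem_dList d)).1 (dlt d (mem_dList d)).2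
  let f : DihedralGroup 4 →* ↥(Subgroup.centralizer ({q sK} : Set (E.K ⧸ E.V))) :=
    MonoidHom.mk' (fun d => ⟨q (rep d), mem_centralizer_of (by
      rw [← map_mul, ← map_mul]
      exact congrArg q (Subtype.ext (E.el_comm_s (dlt d (mem_dList d)).1)))⟩) fun d d' => Subtype.ext (by
      show q (rep (d * d')) = q (rep d) * q (rep d')
      rw [← map_mul]
      refine (mul_inv_eq_one.mp ?_).symm
      rw [← map_inv, ← map_mul]
      refine (QuotientGroup.eq_one_iff _).mpr ⟨_, mul_lt (mul_lt (dlt d (mem_dList d)).1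
        (dlt d' (mem_dList d')).1) (Alt.inv_lt (dlt _ (mem_dList (d * d'))).1),
        dmul d (mem_dList d) d' (mem_dList d'), ?_⟩
      rw [E.el_mul (mul_lt (dlt d (mem_dList d)).1 (dlt d' (mem_dList d')).1)
          (Alt.inv_lt (dlt _ (mem_dList (d * d'))).1),
        E.el_mul (dlt d (mem_dList d)).1 (dlt d' (mem_dList d')).1,
        ← E.ι_eq (Alt.inv_lt (dlt _ (mem_dList (d * d'))).1), E.F.map_inv (dlt _ (mem_dList (d * d'))).1,
        E.ι_eq (dlt _ (mem_dList (d * d'))).1]
      rfl)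
  have hfb : Function.Bijective f := by
    refine ⟨?_, ?_⟩
    · rw [injective_iff_map_eq_one]
      intro d hd
      obtain ⟨a, ha, hA, hua⟩ := (QuotientGroup.eq_one_iff (rep d)).mp (congrArg Subtype.val hd)
      rw [E.el_inj ha (dlt d (mem_dList d)).1 hua] at hA
      exact (dker d (mem_dList d) hA).trans DihedralGroup.one_def.symm
    · rintro ⟨z, hz⟩
      obtain ⟨k, rfl⟩ := QuotientGroup.mk'_surjective E.V z
      obtain ⟨hkt, hks⟩ := E.mem_T.mp (hcent k (comm_of_mem hz))
      obtain ⟨a, ha, hae⟩ := E.el_surj hks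
      obtain ⟨d, -, hd⟩ := List.any_eq_true.mp (Alt.imp_spec (allL_spec dsurj ha)
        ((E.el_comm ha (by decide)).mpr (by rw [hae]; exact hkt)))
      refine ⟨d, Subtype.ext ?_⟩
      show q (rep d) = q k
      refine inv_mul_eq_one.mp ?_
      rw [← map_inv, ← map_mul]
      refine (QuotientGroup.eq_one_iff _).mpr
        ⟨_, mul_lt (Alt.inv_lt (dlt d (mem_dList d)).1) ha, hd, ?_⟩
      rw [E.el_mul (Alt.inv_lt (dlt d (mem_dList d)).1) ha,
        ← E.ι_eq (Alt.inv_lt (dlt d (mem_dList d)).1), E.F.map_inv (dlt d (mem_dList d)).1,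
        E.ι_eq (dlt d (mem_dList d)).1, hae]
      rfl
  -- an element of order three
  obtain ⟨r, hr3, hr1, hrK⟩ : ∃ r : G, r ^ 3 = 1 ∧ r ≠ 1 ∧ r ∈ E.K := by
    refine ⟨E.wv [0, 0, 0, 6, 5, 2, 2], ?_, ?_, E.mem_K.mpr ?_⟩
    · rw [pow_succ, pow_two, ← E.wv_append, ← E.wv_append]
      exact E.wv_one (by decide +kernel)
    · intro h
      have := E.inj (h.trans (map_one E.φ).symm)
      have h2 := sameWord_of_eq (u := [0, 0, 0, 6, 5, 2, 2]) (v := []) (by decide +kernel)
        (by decide +kernel) this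
      exact absurd h2 (by decide +kernel)
    · show E.wv _ * E.wv (wd Alt.tI) = E.wv (wd Alt.tI) * E.wv _
      rw [← E.wv_append, ← E.wv_append]
      exact E.wv_eq (by decide +kernel)
  have index_two : ∀ [IsSimpleGroup (E.K ⧸ E.V)], False := by
    intro hsim
    let C : Subgroup E.K := (Subgroup.centralizer ({E.v} : Set G)).subgroupOf E.K
    haveI : C.Normal := ⟨fun c hc g => by
      show ((g * c * g⁻¹ : E.K) : G) ∈ Subgroup.centralizer ({E.v} : Set G)
      refine mem_centralizer_of ?_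
      have hcv : (c : G) * E.v = E.v * c := comm_of_mem hc
      have hct : (c : G) * E.t = E.t * c := E.mem_K.mp c.2
      have hgt : (g : G) * E.t * (g : G)⁻¹ = E.t := by rw [E.mem_K.mp g.2, mul_inv_cancel_right]
      have hv' : E.v = (g : G) * E.v * (g : G)⁻¹ ∨
          E.v = (g : G) * (E.v * E.t) * (g : G)⁻¹ := by
        rcases E.conj_v g with h | h
        · exact Or.inl h.symm
        · refine Or.inr ?_
          calc E.v = E.v * E.t * E.t := by rw [mul_assoc, E.t_mul_t, mul_one]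
            _ = (g : G) * E.v * (g : G)⁻¹ * ((g : G) * E.t * (g : G)⁻¹) := by rw [h, hgt]
            _ = _ := by group
      show (g : G) * c * (g : G)⁻¹ * E.v = E.v * ((g : G) * c * (g : G)⁻¹)
      rcases hv' with h | h <;> nth_rw 1 2 [h]
      · calc _ = (g : G) * ((c : G) * E.v) * (g : G)⁻¹ := by group
          _ = _ := by rw [hcv]; group
      · have : (c : G) * (E.v * E.t) = E.v * E.t * c := (Commute.mul_right hcv hct).eq
        calc _ = (g : G) * ((c : G) * (E.v * E.t)) * (g : G)⁻¹ := by group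
          _ = _ := by rw [this]; group⟩
    have hVC : E.V ≤ C := by
      intro u hu
      show (u : G) ∈ Subgroup.centralizer ({E.v} : Set G)
      refine mem_centralizer_of ?_
      obtain ⟨a, ha, hA, hua⟩ := hu
      have h := Alt.imp_spec (allL_spec V_chk ha) hA
      simp only [Bool.and_eq_true] at h
      have h2 := Alt.imp_spec (allL_spec h.1.1.1.2 (by decide : vI < 192)) (by decide +kernel)
      rw [Bool.and_eq_true] at h2
      rw [← hua]
      exact (E.el_comm ha (by decide)).mp h2.2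
    have hxK : E.x ∈ E.K := E.mem_K.mpr ((E.el_comm (by decide) (by decide)).mp (by decide +kernel))
    have hxC : (⟨E.x, hxK⟩ : E.K) ∉ C := fun h => by
      have hb : Alt.commB xI vI = true := (E.el_comm (by decide) (by decide)).mpr (comm_of_mem h)
      exact absurd hb (by decide +kernel)
    have hrC : (⟨r, hrK⟩ : E.K) ∈ C := by
      refine mem_centralizer_of ?_
      have ho : Odd (orderOf (⟨r, hrK⟩ : E.K)) := by
        refine Odd.of_dvd_nat (by decide : Odd 3) (orderOf_dvd_of_pow_eq_one (Subtype.ext hr3))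
      have := E.V_comm_odd (u := ⟨E.v, E.v_mem_K⟩) (E.mem_V.mpr (Or.inr (Or.inr (Or.inl rfl)))) ho
      exact (congrArg Subtype.val this).symm
    haveI : (C.map q).Normal := Subgroup.Normal.map inferInstance q (QuotientGroup.mk'_surjective _)
    rcases (inferInstance : (C.map q).Normal).eq_bot_or_eq_top with h | h
    · have h2 : q ⟨r, hrK⟩ = 1 := by
        rw [← Subgroup.mem_bot, ← h]; exact ⟨_, hrC, rfl⟩
      have h3 := E.V_sq ((QuotientGroup.eq_one_iff _).mp h2)
      have h4 : r * r = 1 := congrArg Subtype.val h3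
      refine hr1 ?_
      rw [pow_succ, pow_two, h4, one_mul] at hr3
      exact hr3
    · obtain ⟨c, hc, hce⟩ := h.ge (Subgroup.mem_top (q ⟨E.x, hxK⟩))
      refine hxC ?_
      have hmem : c⁻¹ * (⟨E.x, hxK⟩ : E.K) ∈ E.V := by
        refine (QuotientGroup.eq_one_iff _).mp ?_
        show q (c⁻¹ * _) = 1
        rw [map_mul, map_inv, hce, inv_mul_cancel]
      simpa using C.mul_mem hc (hVC hmem)
  rcases S3035.result (q sK) hs ⟨(MulEquiv.ofBijective f hfb).symm⟩ with h | h | h | ⟨⟨e⟩⟩ | ⟨⟨e⟩⟩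
  · exfalso
    haveI : (Cfsg.oddCore (E.K ⧸ E.V)).Normal := H19.pPrimeCore_normal 2 _
    rw [hodd (Cfsg.oddCore (E.K ⧸ E.V)) ‹_›
      (Nat.coprime_two_right.mp (H44.pPrimeCore_card_coprime' (G := E.K ⧸ E.V) 2)), sup_bot_eq] at h
    obtain ⟨-, hks⟩ := E.mem_T.mp (hcent ⟨r, hrK⟩
      (comm_of_mem (h.ge (Subgroup.mem_top (q ⟨r, hrK⟩)))))
    have hT : r ∈ E.T := E.mem_T.mpr ⟨E.mem_K.mp hrK, hks⟩
    have h32 : r ^ 32 = 1 := by
      have h : (⟨r, hT⟩ : E.T) ^ Nat.card E.T = 1 := pow_card_eq_one'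
      rw [E.card_T] at h
      exact congrArg Subtype.val h
    refine hr1 ?_
    calc r = r ^ 33 := by rw [pow_succ, h32, one_mul]
      _ = 1 := by rw [show 33 = 3 * 11 by norm_num, pow_mul, hr3, one_pow]
  · exact Or.inl h
  · exact Or.inr h
  · exfalso
    haveI : IsSimpleGroup (E.K ⧸ E.V) := by
      have hone := zmod_two_one
      let ι : Matrix.SpecialLinearGroup (Fin 3) (ZMod 2) →* GL (Fin 3) (ZMod 2) :=
        Matrix.SpecialLinearGroup.toGL
      have hιs : Function.Surjective ι := fun g =>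
        ⟨⟨(g : Matrix (Fin 3) (Fin 3) (ZMod 2)),
          hone _ (g.isUnit.map Matrix.detMonoidHom).ne_zero⟩, Units.ext rfl⟩
      have hιi : Function.Injective ι := fun a b h => Subtype.ext (congrArg Units.val h)
      haveI := H50.AltEight.gl_three_two.1
      exact (e.trans (MulEquiv.ofBijective ι ⟨hιi, hιs⟩)).isSimpleGroup
    exact index_two
  · exfalso
    haveI : IsSimpleGroup (E.K ⧸ E.V) := by
      haveI : IsSimpleGroup (alternatingGroup (Fin 6)) := alternatingGroup.isSimpleGroup (by simp)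
      exact e.isSimpleGroup
    exact index_two

end Emb

end Cfsg.Agent.H80.Ext
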