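import Cfsg.Agent.H80.Ext.Coords
import Cfsg.Agent.S3335

/-! The larger centralizer: the group is the alternating group of degree nine. -/

set_option autoImplicit false
set_option maxRecDepth 20000

namespace Cfsg.Agent.H80.Ext

open Cfsg.Agent.H16 Cfsg.Agent.H68.J1 Cfsg.Agent.H80.Alt
open Cfsg.Agent.H68.J1.Cert (ev)

/-- word of an element exchanging the middle pairs -/
def hW : List Nat := [2, 0, 2, 1, 2]

/-- word of the conjugate of the second generator of the four group -/
def uW : List Nat := hW ++ vW ++ Alt.invW hW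

/-- words of the first six generators -/
def pW (i : Nat) : List Nat := [rW, [2, 2], [1, 7, 3, 5, 0], xW, yW, zW].getD i []

/-- the letters as products of the generators -/
def letW (l : Nat) : List Nat :=
  [[1, 2, 3, 4, 5, 1, 2, 3, 4], [4, 5, 3, 4, 2, 3, 1, 2, 1], [0, 5, 1, 0], [5, 0, 1, 0, 0],
    [5, 4, 1, 0], [4, 0, 5, 1], [4, 5, 1, 0], [5, 0, 4, 1]].getD l []

theorem gen_chk : (sameWord (pW 0 ++ pW 0 ++ pW 0) [] &&
    allFrom (fun i => sameWord (pW i ++ pW i) []) 5 1 &&
    allFrom (fun i => sameWord (pW i ++ pW (i + 1) ++ pW i ++ pW (i + 1) ++ pW i ++ pW (i + 1)) []) 5 0 &&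
    allFrom (fun i => allFrom (fun j => Alt.imp (Nat.ble (i + 2) j)
      (sameWord (pW i ++ pW j ++ pW i ++ pW j) [])) 6 0) 6 0 &&
    allFrom (fun i => sameWord (pW i ++ zW ++ pW i) zW) 4 0 &&
    sameWord (pW 1) (wd Alt.tI) && sameWord (rW ++ vW ++ Alt.invW rW) (wd Alt.tI) &&
    sameWord (rW ++ xW ++ zW) (xW ++ zW ++ rW) && sameWord (hW ++ wd Alt.tI ++ Alt.invW hW) xW &&
    sameWord (pW 2) (wd Alt.tI ++ uW ++ rW ++ wd Alt.tI ++ uW) &&
    sameWord (yW ++ rW ++ yW) (Alt.invW rW) && sameWord (zW ++ rW ++ zW) (Alt.invW rW) &&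
    allL (fun a => Alt.imp (inV a && sameWord (wd a ++ rW) (rW ++ wd a)) (Nat.beq a 0)) &&
    allFrom (fun l => sameWord [l] ((letW l).flatMap pW)) 8 0 &&
    allFrom (fun l => (letW l).all fun i => Nat.ble (Nat.succ i) 6) 8 0 &&
    !sameWord (pW 1) []) = true := by
  decide +kernel

namespace Emb

variable {G : Type*} [Group G] (E : Emb G)

theorem wv_flatMap : ∀ w : List Nat, E.wv (w.flatMap pW) = (w.map fun i => E.wv (pW i)).prod
  | [] => map_one E.φ
  | i :: w => by
    rw [List.flatMap_cons, E.wv_append, wv_flatMap w, List.map_cons, List.prod_cons]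

variable [Finite G]

/-- If the quotient is the symmetric group of five letters, the whole group is the alternating
group of nine letters. -/
theorem iso_of_large (e : E.K ⧸ E.V ≃* S5) : Nonempty (G ≃* alternatingGroup (Fin 9)) := by
  classical
  obtain ⟨C⟩ := E.exists_coords e
  have hchk := gen_chk
  simp only [Bool.and_eq_true, Bool.not_eq_true'] at hchk
  obtain ⟨⟨⟨⟨⟨⟨⟨⟨⟨⟨⟨⟨⟨⟨⟨k0, k1⟩, k2⟩, k3⟩, k4⟩, k5⟩, k6⟩, k7⟩, k8⟩, k9⟩, k10⟩, k11⟩, k12⟩, k13⟩, k14⟩, k15⟩ := hchk
  have hw := word_chk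
  simp only [Bool.and_eq_true] at hw
  obtain ⟨⟨⟨⟨⟨⟨⟨⟨⟨⟨⟨⟨hx, hv⟩, hzz⟩, hyy⟩, hxx⟩, hzt⟩, hyt⟩, hxt⟩, -⟩, -⟩, -⟩, hrr⟩, hxzc⟩ := hw
  have mk : ∀ w, sameWord (w ++ wd Alt.tI) (wd Alt.tI ++ w) = true → E.wv w ∈ E.K := fun w h =>
    E.mem_K.mpr (by
      show E.wv w * E.wv (wd Alt.tI) = E.wv (wd Alt.tI) * E.wv w
      rw [← E.wv_append, ← E.wv_append]
      exact E.wv_eq h)
  have sq : ∀ w, sameWord (w ++ w) [] = true → E.wv w * E.wv w = 1 := fun w h => by
    rw [← E.wv_append]; exact E.wv_one h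
  set r := E.wv rW with hr
  set x := E.wv xW with hxdef
  set y := E.wv yW with hydef
  set z := E.wv zW with hzdef
  have xx : x * x = 1 := sq _ hxx
  have yy : y * y = 1 := sq _ hyy
  have zz : z * z = 1 := sq _ hzz
  have r3 : r * r * r = 1 := by rw [hr, ← E.wv_append, ← E.wv_append]; exact E.wv_one hrr
  let xK : E.K := ⟨x, mk _ hxt⟩
  let yK : E.K := ⟨y, mk _ hyt⟩
  let zK : E.K := ⟨z, mk _ hzt⟩
  have kerV : ∀ u : E.K, C.π u = 1 → u ∈ E.V := fun u h => E.mem_V.mpr ((C.ker u).mp h)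
  have odd3 : ∀ {u : E.K}, u * u * u = 1 → Odd (orderOf u) := fun {u} h =>
    Odd.of_dvd_nat (by decide : Odd 3) (orderOf_dvd_of_pow_eq_one (by rw [pow_succ, pow_two, h]))
  -- lifts of elements of order three
  have uniq : ∀ {a b : E.K}, a * a * a = 1 → b * b * b = 1 → C.π a = C.π b → a = b := by
    intro a b ha hb he
    have hm : a⁻¹ * b ∈ E.V := kerV _ (by rw [map_mul, map_inv, he, inv_mul_cancel])
    have hc : Commute a (a⁻¹ * b) := (E.V_comm_odd hm (odd3 ha)).symm
    have hb' : b = a * (a⁻¹ * b) := by rw [mul_inv_cancel_left]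
    set w := a⁻¹ * b with hw
    have w3 : w ^ 3 = 1 := by
      have h1 : (a * w) ^ 3 = a ^ 3 * w ^ 3 := hc.mul_pow 3
      rw [← hb', pow_succ, pow_two, hb, show a ^ 3 = 1 by rw [pow_succ, pow_two, ha], one_mul] at h1
      exact h1.symm
    have w2 := E.V_sq hm
    rw [pow_succ, pow_two, w2, one_mul] at w3
    rw [hb', w3, mul_one]
  have lift : ∀ σ : S5, σ * σ * σ = 1 → ∃ a : E.K, a * a * a = 1 ∧ C.π a = σ := by
    intro σ hσ
    obtain ⟨m, rfl⟩ := C.surj σ
    have h6 : m ^ 6 = 1 := by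
      rw [show (6 : ℕ) = 3 * 2 by norm_num, pow_mul, pow_two (m ^ 3)]
      exact E.V_sq (kerV _ (by rw [map_pow, pow_succ, pow_two, hσ]))
    refine ⟨m ^ 4, ?_, ?_⟩
    · rw [← pow_add, ← pow_add, show 4 + 4 + 4 = 6 + 6 by norm_num, pow_add, h6, one_mul]
    · rw [map_pow, pow_succ, pow_succ, pow_two, hσ, one_mul]
  obtain ⟨c, c3, cπ⟩ := lift gam gam_facts.1
  obtain ⟨c', c3', cπ'⟩ := lift gam' gam_facts.2.1
  have cv : ∀ a : E.K, a * a * a = 1 → (a : G) * E.v = E.v * a := fun a ha =>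
    (congrArg Subtype.val (E.V_comm_odd (u := ⟨E.v, E.v_mem_K⟩)
      (E.mem_V.mpr (Or.inr (Or.inr (Or.inl rfl)))) (odd3 ha))).symm
  have conj3 : ∀ {H : Type _} [Group H] {a b : H}, a * a = 1 → b * b * b = 1 →
      a * b * a * (a * b * a) * (a * b * a) = 1 := fun {H} _ {a b} ha hb => by
    calc a * b * a * (a * b * a) * (a * b * a)
        = a * b * (a * a) * b * (a * a) * b * a := by simp only [mul_assoc]
      _ = a * (b * b * b) * a := by rw [ha]; simp only [mul_assoc, one_mul]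
      _ = 1 := by rw [hb, mul_one, ha]
  have inv3 : ∀ {a : E.K}, a * a * a = 1 → a⁻¹ * a⁻¹ * a⁻¹ = 1 := fun {a} h => by
    rw [← mul_inv_rev, ← mul_inv_rev, ← mul_assoc, h, inv_one]
  have zKsq : zK * zK = 1 := Subtype.ext zz
  have xKsq : xK * xK = 1 := Subtype.ext xx
  have zcz : zK * c * zK = c⁻¹ := uniq (conj3 zKsq c3) (inv3 c3) (by
    rw [map_mul, map_mul, map_inv, cπ, C.π_z]
    exact gam_facts.2.2.2.2.2.2.2.2.1)
  have xcx : xK * c * xK = c := uniq (conj3 xKsq c3) c3 (by
    rw [map_mul, map_mul, cπ, C.π_x]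
    exact gam_facts.2.2.2.2.2.2.2.2.2.1)
  let jK : E.K := xK * zK
  have jsq : jK * jK = 1 := Subtype.ext (by
    show x * z * (x * z) = 1
    have hxzc' : x * z = z * x := by
      rw [hxdef, hzdef, ← E.wv_append, ← E.wv_append]; exact E.wv_eq hxzc
    calc x * z * (x * z) = x * (z * x) * z := by simp only [mul_assoc]
      _ = (x * x) * (z * z) := by rw [← hxzc']; simp only [mul_assoc]
      _ = 1 := by rw [xx, zz, one_mul])
  have πj : C.π jK = jj := by rw [map_mul, C.π_x, C.π_z]; rfl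
  have jcj : jK * c * jK = c⁻¹ := uniq (conj3 jsq c3) (inv3 c3) (by
    rw [map_mul, map_mul, map_inv, cπ, πj]
    exact gam_facts.2.2.2.2.2.2.2.2.2.2.1)
  have jcj' : jK * c' * jK = c'⁻¹ := uniq (conj3 jsq c3') (inv3 c3') (by
    rw [map_mul, map_mul, map_inv, cπ', πj]
    exact gam_facts.2.2.1)
  -- conjugation by `r`
  have rt : r * E.v * r⁻¹ = E.t := by
    rw [← E.wv_v, hr, ← E.wv_invW, ← E.wv_append, ← E.wv_append]
    exact E.wv_eq k6
  have rj : r * (jK : G) = jK * r := by
    show E.wv rW * (E.wv xW * E.wv zW) = E.wv xW * E.wv zW * E.wv rW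
    simp only [← mul_assoc, ← E.wv_append]
    exact E.wv_eq k7
  have rK : ∀ a : E.K, a * a * a = 1 → r * a * r⁻¹ ∈ E.K := fun a ha => E.mem_K.mpr (by
    rw [← rt]
    calc r * a * r⁻¹ * (r * E.v * r⁻¹) = r * ((a : G) * E.v) * r⁻¹ := by group
      _ = r * (E.v * a) * r⁻¹ := by rw [cv a ha]
      _ = _ := by group)
  have four : ∀ a : E.K, a * a * a = 1 → a ≠ 1 → jK * a * jK = a⁻¹ →
      a = c ∨ a = c⁻¹ ∨ a = c' ∨ a = c'⁻¹ := by
    intro a ha hne hja
    have hπ3 : C.π a * C.π a * C.π a = 1 := by rw [← map_mul, ← map_mul, ha, map_one]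
    have hπ1 : C.π a ≠ 1 := fun h => hne (uniq ha (by simp) (by rw [h, map_one]))
    rcases inverted_cases _ hπ3 hπ1 (by rw [← πj, ← map_mul, ← map_mul, hja, map_inv]) with h | h | h | h
    · exact Or.inl (uniq ha c3 (h.trans cπ.symm))
    · exact Or.inr (Or.inl (uniq ha (inv3 c3) (by rw [h, map_inv, cπ])))
    · exact Or.inr (Or.inr (Or.inl (uniq ha c3' (h.trans cπ'.symm))))
    · exact Or.inr (Or.inr (Or.inr (uniq ha (inv3 c3') (by rw [h, map_inv, cπ']))))
  have image : ∀ a : E.K, a * a * a = 1 → a ≠ 1 → jK * a * jK = a⁻¹ →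
      (r * a * r⁻¹ = (c : G) ∨ r * a * r⁻¹ = (c : G)⁻¹) ∨
        (r * a * r⁻¹ = (c' : G) ∨ r * a * r⁻¹ = (c' : G)⁻¹) := by
    intro a ha hne hja
    have h := four ⟨r * a * r⁻¹, rK a ha⟩ (Subtype.ext (by
        show r * a * r⁻¹ * (r * a * r⁻¹) * (r * a * r⁻¹) = 1
        calc _ = r * ((a : G) * a * a) * r⁻¹ := by group
          _ = r * 1 * r⁻¹ := by rw [show (a : G) * a * a = 1 from congrArg Subtype.val ha]
          _ = 1 := by group))
      (fun h => hne (Subtype.ext (conj_eq_one_iff.mp (congrArg Subtype.val h))))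
      (Subtype.ext (by
        show (jK : G) * (r * a * r⁻¹) * jK = (r * a * r⁻¹)⁻¹
        have e2 : (jK : G) * a * jK = (a : G)⁻¹ := congrArg Subtype.val hja
        have e3 : r⁻¹ * (jK : G) = jK * r⁻¹ := by
          calc r⁻¹ * (jK : G) = r⁻¹ * ((jK : G) * r) * r⁻¹ := by group
            _ = r⁻¹ * (r * jK) * r⁻¹ := by rw [rj]
            _ = _ := by group
        calc (jK : G) * (r * a * r⁻¹) * jK = ((jK : G) * r) * a * (r⁻¹ * jK) := by group
          _ = r * ((jK : G) * a * jK) * r⁻¹ := by rw [← rj, e3]; group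
          _ = _ := by rw [e2]; group))
    rcases h with h | h | h | h
    · exact Or.inl (Or.inl (congrArg Subtype.val h))
    · exact Or.inl (Or.inr (congrArg Subtype.val h))
    · exact Or.inr (Or.inl (congrArg Subtype.val h))
    · exact Or.inr (Or.inr (congrArg Subtype.val h))
  have cne : c ≠ 1 := fun h => gam_facts.2.2.2.1 (by rw [← cπ, h, map_one])
  have cne' : c' ≠ 1 := fun h => gam_facts.2.2.2.2.1 (by rw [← cπ', h, map_one])
  have cinv : (c : G) ≠ (c : G)⁻¹ := fun h => gam_facts.2.2.2.2.2.1 (by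
    rw [← cπ, ← map_inv]; exact congrArg C.π (Subtype.ext h))
  have ccp : (c : G) ≠ c' := fun h => gam_facts.2.2.2.2.2.2.1 (by
    rw [← cπ, ← cπ']; exact congrArg C.π (Subtype.ext h))
  have ccn : (c : G) ≠ (c' : G)⁻¹ := fun h => gam_facts.2.2.2.2.2.2.2.1 (by
    rw [← cπ, ← cπ', ← map_inv]; exact congrArg C.π (Subtype.ext h))
  have rc : r * (c : G) = c * r := by
    let f : G → G := fun a => r * a * r⁻¹
    have finv : ∀ a, f a⁻¹ = (f a)⁻¹ := fun a => by show r * a⁻¹ * r⁻¹ = (r * a * r⁻¹)⁻¹; group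
    have f3 : ∀ a, f (f (f a)) = a := fun a => by
      calc r * (r * (r * a * r⁻¹) * r⁻¹) * r⁻¹ = r * r * r * a * (r * r * r)⁻¹ := by group
        _ = a := by rw [r3]; group
    rcases image c c3 cne jcj with (h | h) | h
    · exact mul_inv_eq_iff_eq_mul.mp h
    · exfalso
      have e1 : f (c : G) = (c : G)⁻¹ := h
      have e2 := f3 (c : G)
      rw [e1, finv, e1, inv_inv, e1] at e2
      exact cinv e2.symm
    · exfalso
      have e1 : f (c : G) = (c' : G) ∨ f (c : G) = (c' : G)⁻¹ := h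
      have e3 := f3 (c : G)
      rcases image c' c3' cne' jcj' with (g1 | g1) | (g1 | g1) <;> rcases e1 with e1 | e1
      all_goals have g2 : f (c' : G) = _ := g1
      all_goals simp only [e1, g2, finv, inv_inv] at e3
      all_goals first
        | exact ccp e3.symm
        | exact ccn e3.symm
  have cG3 : (c : G) * c * c = 1 := congrArg Subtype.val c3
  have ct : (c : G) * E.t = E.t * c := E.mem_K.mp c.2
  have cu : (c : G) * E.wv uW = E.wv uW * c := by
    set h := E.wv hW with hh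
    have htx : h * E.t * h⁻¹ = x := by
      show E.wv hW * E.wv (wd Alt.tI) * (E.wv hW)⁻¹ = E.wv xW
      rw [← E.wv_invW, ← E.wv_append, ← E.wv_append]
      exact E.wv_eq k8
    have cx : (c : G) * x = x * c := by
      have e : x * c * x = (c : G) := congrArg Subtype.val xcx
      calc (c : G) * x = x * c * x * x := by rw [e]
        _ = x * c := by rw [mul_assoc (x * c), xx, mul_one]
    have hmem : h⁻¹ * c * h ∈ E.K := E.mem_K.mpr (by
      calc h⁻¹ * c * h * E.t = h⁻¹ * ((c : G) * (h * E.t * h⁻¹)) * h := by group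
        _ = h⁻¹ * ((h * E.t * h⁻¹) * c) * h := by rw [htx, cx]
        _ = _ := by group)
    have hc := cv ⟨_, hmem⟩ (Subtype.ext (by
      show h⁻¹ * c * h * (h⁻¹ * c * h) * (h⁻¹ * c * h) = 1
      calc _ = h⁻¹ * ((c : G) * c * c) * h := by group
        _ = 1 := by rw [cG3]; group))
    rw [uW, E.wv_append, E.wv_append, E.wv_invW, E.wv_v, ← hh]
    calc (c : G) * (h * E.v * h⁻¹) = h * ((h⁻¹ * c * h) * E.v) * h⁻¹ := by group
      _ = h * (E.v * (h⁻¹ * c * h)) * h⁻¹ := by rw [hc]
      _ = _ := by group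
  have cpW : ∀ i, i < 4 → (c : G) * E.wv (pW i) = E.wv (pW i) * c := by
    intro i hi
    interval_cases i
    · exact rc.symm
    · rw [E.wv_eq k5]; exact ct
    · rw [E.wv_eq k9, E.wv_append, E.wv_append, E.wv_append, E.wv_append]
      exact ((((show Commute (c : G) _ from ct).mul_right cu).mul_right rc.symm).mul_right ct).mul_right cu
    · have e : x * c * x = (c : G) := congrArg Subtype.val xcx
      show (c : G) * x = x * c
      calc (c : G) * x = x * c * x * x := by rw [e]
        _ = x * c := by rw [mul_assoc (x * c), xx, mul_one]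
  set g := z * (c : G) with hg
  have czc : (c : G) * z * c = z := by
    have e : z * c * z = (c : G)⁻¹ := congrArg Subtype.val zcz
    calc (c : G) * z * c = (c : G) * (z * c * z) * z⁻¹ := by group
      _ = z := by rw [e, inv_eq_of_mul_eq_one_left zz]; group
  have gg : g * g = 1 := by
    calc g * g = z * ((c : G) * z * c) := by rw [hg]; group
      _ = 1 := by rw [czc, zz]
  let gK : E.K := zK * c
  have πg : C.π gK = Equiv.swap 3 4 := by
    rw [map_mul, C.π_z, cπ]; exact gam_facts.2.2.2.2.2.2.2.2.2.2.2.1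
  have farg : ∀ i, i < 5 → (E.wv (pW i) * g) ^ 2 = 1 := by
    intro i hi
    rw [pow_two]
    rcases Nat.lt_or_ge i 4 with h4 | h4
    · set a := E.wv (pW i) with ha
      have az : a * z * a = z := by
        rw [ha, hzdef, ← E.wv_append, ← E.wv_append]
        exact E.wv_eq (allFrom_spec k4 i (Nat.zero_le i) (by omega))
      calc a * g * (a * g) = a * z * ((c : G) * a) * z * c := by rw [hg]; simp only [mul_assoc]
        _ = (a * z * a) * ((c : G) * z * c) := by
            have hca : (c : G) * a = a * c := cpW i h4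
            rw [hca]; simp only [mul_assoc]
        _ = 1 := by rw [az, czc, zz]
    · obtain rfl : i = 4 := by omega
      show y * g * (y * g) = 1
      have hν : yK * gK * (yK * gK) ∈ E.V := kerV _ (by
        rw [map_mul, map_mul, πg, C.π_y]
        exact gam_facts.2.2.2.2.2.2.2.2.2.2.2.2)
      obtain ⟨a, ha, hA, hau⟩ := hν
      have hau' : E.el a = y * g * (y * g) := hau
      have yr : y * r * y = r⁻¹ := by
        rw [hydef, hr, ← E.wv_invW, ← E.wv_append, ← E.wv_append]; exact E.wv_eq k10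
      have gr : g * r * g = r⁻¹ := by
        have zr : z * r * z = r⁻¹ := by
          rw [hzdef, hr, ← E.wv_invW, ← E.wv_append, ← E.wv_append]; exact E.wv_eq k11
        calc g * r * g = z * ((c : G) * r) * z * c := by rw [hg]; simp only [mul_assoc]
          _ = z * r * ((c : G) * z * c) := by rw [← rc]; simp only [mul_assoc]
          _ = r⁻¹ := by rw [czc, zr]
      have hcomm : y * g * r = r * (y * g) := by
        have e1 : g * r = r⁻¹ * g := by
          calc g * r = g * r * (g * g) := by rw [gg, mul_one]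
            _ = (g * r * g) * g := by simp only [mul_assoc]
            _ = r⁻¹ * g := by rw [gr]
        have e2 : y * r⁻¹ = r * y := by
          calc y * r⁻¹ = y * (y * r * y) := by rw [yr]
            _ = r * y := by rw [← mul_assoc, ← mul_assoc, yy, one_mul]
        rw [mul_assoc, e1, ← mul_assoc, e2, mul_assoc]
      have h2 : E.el a * r = r * E.el a := by
        rw [hau']
        exact (show Commute (y * g) r from hcomm).mul_left hcomm
      have hs : sameWord (wd a ++ rW) (rW ++ wd a) = true := by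
        have hl := allL_spec distinct_chk.2.2.2.2.2.2.2 ha
        refine sameWord_of_eq ?_ ?_ (E.inj ?_)
        · exact (show allL (fun a => lettersBelow 8 (wd a ++ rW)) = true by decide +kernel) |>
            fun h => allL_spec h ha
        · exact (show allL (fun a => lettersBelow 8 (rW ++ wd a)) = true by decide +kernel) |>
            fun h => allL_spec h ha
        · show E.wv (wd a ++ rW) = E.wv (rW ++ wd a)
          rw [E.wv_append, E.wv_append]; exact h2
      have h0 := Nat.eq_of_beq_eq_true (Alt.imp_spec (allL_spec k12 ha) (by rw [hA, hs]; rfl))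
      rw [← hau', h0, E.el_zero]
  let gens : Fin 7 → G := fun i => if i.val < 6 then E.wv (pW i.val) else g
  have gens_lt : ∀ (i : Fin 7), i.val < 6 → gens i = E.wv (pW i.val) := fun i h => if_pos h
  have gens_six : ∀ (i : Fin 7), i.val = 6 → gens i = g := fun i h => if_neg (by omega)
  have hrels : ∀ rel ∈ ({f : FreeGroup (Fin (9 - 2)) | ∃ i : Fin (9 - 2), i.val = 0 ∧ f = FreeGroup.of i ^ 3} ∪
       {f | ∃ i : Fin (9 - 2), 1 ≤ i.val ∧ f = FreeGroup.of i ^ 2} ∪
       {f | ∃ i j : Fin (9 - 2), j.val = i.val + 1 ∧ f = (FreeGroup.of i * FreeGroup.of j) ^ 3} ∪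
       {f | ∃ i j : Fin (9 - 2), i.val + 1 < j.val ∧ f = (FreeGroup.of i * FreeGroup.of j) ^ 2}),
      FreeGroup.lift gens rel = 1 := by
    rintro rel (((⟨i, hi, rfl⟩ | ⟨i, hi, rfl⟩) | ⟨i, j, h, rfl⟩) | ⟨i, j, h, rfl⟩) <;>
      simp only [map_pow, map_mul, FreeGroup.lift_apply_of]
    · rw [gens_lt i (by omega), hi, pow_succ, pow_two, ← E.wv_append, ← E.wv_append]
      exact E.wv_one k0
    · rcases Nat.lt_or_ge i.val 6 with h6 | h6
      · rw [gens_lt i h6, pow_two]
        exact sq _ (allFrom_spec k1 _ hi (by omega))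
      · rw [gens_six i (by omega), pow_two, gg]
    · rcases Nat.lt_or_ge j.val 6 with h6 | h6
      · rw [gens_lt i (by omega), gens_lt j h6, pow_succ, pow_two, h]
        have hk := E.wv_one (allFrom_spec k2 i.val (Nat.zero_le _) (by omega))
        simp only [E.wv_append, mul_assoc] at hk ⊢
        exact hk
      · rw [gens_lt i (by omega), gens_six j (by omega), show i.val = 5 by omega]
        show (z * g) ^ 3 = 1
        rw [hg, ← mul_assoc, zz, one_mul, pow_succ, pow_two, cG3]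
    · rcases Nat.lt_or_ge j.val 6 with h6 | h6
      · rw [gens_lt i (by omega), gens_lt j h6, pow_two]
        have hk := E.wv_one (Alt.imp_spec (allFrom_spec (allFrom_spec k3 i.val (Nat.zero_le _) (by omega))
          j.val (Nat.zero_le _) (by omega)) (Nat.ble_eq_true_of_le (show i.val + 2 ≤ j.val by omega)))
        simp only [E.wv_append, mul_assoc] at hk ⊢
        exact hk
      · rw [gens_lt i (by omega), gens_six j (by omega)]
        exact farg _ (by omega)
  obtain ⟨e9⟩ := S3335.result 9 (by norm_num)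
  let ψ0 := PresentedGroup.toGroup hrels
  have hψ0 : ∀ i, ψ0 (PresentedGroup.of i) = gens i := fun i => PresentedGroup.toGroup.of hrels
  let ψ : alternatingGroup (Fin 9) →* G := ψ0.comp e9.symm.toMonoidHom
  have mem : ∀ i : Fin 7, gens i ∈ ψ.range := fun i =>
    ⟨e9 (PresentedGroup.of i), by
      show ψ0 (e9.symm (e9 _)) = _
      rw [e9.symm_apply_apply, hψ0]⟩
  have hψi : Function.Injective ψ := by
    haveI : IsSimpleGroup (alternatingGroup (Fin 9)) := alternatingGroup.isSimpleGroup (by simp)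
    rw [← MonoidHom.ker_eq_bot_iff]
    refine (ψ.normal_ker.eq_bot_or_eq_top).resolve_right fun htop => ?_
    obtain ⟨a, ha⟩ := mem ⟨1, by norm_num⟩
    have h1 : ψ a = 1 := by rw [← MonoidHom.mem_ker, htop]; trivial
    rw [h1, gens_lt _ (by norm_num), E.wv_eq k5] at ha
    have h := E.orderOf_t
    rw [show E.t = 1 from ha.symm, orderOf_one] at h
    omega
  have hH : E.φ.range ≤ ψ.range := by
    rw [MonoidHom.range_eq_map, ← closure_modelLet, MonoidHom.map_closure, Subgroup.closure_le]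
    rintro _ ⟨_, ⟨l, hl, rfl⟩, rfl⟩
    have h1 := allFrom_spec k13 l (Nat.zero_le l) (by omega)
    have h2 := List.all_eq_true.mp (allFrom_spec k14 l (Nat.zero_le l) (by omega))
    have e1 : E.φ (modelLet l) = E.wv [l] := by
      show _ = E.φ (modelLet l * 1)
      rw [mul_one]
    rw [SetLike.mem_coe, e1, E.wv_eq h1, E.wv_flatMap]
    refine Subgroup.list_prod_mem _ fun q hq => ?_
    obtain ⟨i, hi, rfl⟩ := List.mem_map.mp hq
    have hi6 : i < 6 := Nat.le_of_ble_eq_true (h2 i hi)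
    have := mem ⟨i, by omega⟩
    rwa [gens_lt _ hi6] at this
  have hK : Subgroup.centralizer ({E.t} : Set G) ≤ ψ.range := by
    intro u hu
    let S : Submonoid S5 :=
      { carrier := {σ | ∃ w : E.K, (w : G) ∈ ψ.range ∧ C.π w = σ}
        one_mem' := ⟨1, ψ.range.one_mem, map_one _⟩
        mul_mem' := by
          rintro _ _ ⟨w, hw, rfl⟩ ⟨w', hw', rfl⟩
          exact ⟨w * w', ψ.range.mul_mem hw hw', map_mul _ _ _⟩ }
    have hS : S = ⊤ := by
      rw [eq_top_iff, ← Equiv.Perm.mclosure_swap_castSucc_succ 4, Submonoid.closure_le]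
      rintro _ ⟨i, rfl⟩
      fin_cases i
      · exact ⟨xK, hH (E.wv_mem _), C.π_x _⟩
      · exact ⟨yK, hH (E.wv_mem _), C.π_y _⟩
      · exact ⟨zK, hH (E.wv_mem _), C.π_z _⟩
      · refine ⟨gK, ?_, πg⟩
        have := mem ⟨6, by norm_num⟩
        rwa [gens_six ⟨6, by norm_num⟩ rfl] at this
    obtain ⟨w, hw, hwe⟩ : C.π ⟨u, hu⟩ ∈ S := hS ▸ Submonoid.mem_top _
    obtain ⟨a, -, -, hae⟩ := kerV (w⁻¹ * ⟨u, hu⟩) (by rw [map_mul, map_inv, hwe, inv_mul_cancel])
    have h3 : (w : G)⁻¹ * u ∈ ψ.range := by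
      have h4 := hH (E.el_mem a)
      rw [hae] at h4
      exact h4
    simpa using ψ.range.mul_mem hw h3
  have htop := E.eq_top_of_centralizer ψ.range hH hK
  exact ⟨(MulEquiv.ofBijective ψ ⟨hψi, MonoidHom.range_eq_top.mp htop⟩).symm⟩

end Emb

end Cfsg.Agent.H80.Ext
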