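import Cfsg.Agent.H80.Ext.Small
import Cfsg.Agent.H80.Ext.Nine

/-! An alternating group of degree eight containing the centralizer of one of its two classes of
involutions, which are not fused, lives in the alternating group of degree eight or nine. -/

set_option autoImplicit false

namespace Cfsg.Agent.H80.Ext

open Cfsg.Agent.H16 Cfsg.Agent.H68.J1 Cfsg.Agent.H80.Alt
open Cfsg.Agent.H68.J1.Cert (ev)

/-- the group is the alternating group of degree eight or nine -/
theorem eight_or_nine {G : Type*} [Group G] [Finite G] (φ : A8 →* G) (inj : Function.Injective φ)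
    (u v : A8) (hu : (u : P8) = s8) (hv : (v : P8) = t8)
    (hC : ∀ x : G, x * φ u = φ u * x → x ∈ φ.range) (hnc : ¬ IsConj (φ u) (φ v)) :
    Nonempty (G ≃* alternatingGroup (Fin 8)) ∨ Nonempty (G ≃* alternatingGroup (Fin 9)) := by
  have hu' : u = ev modelLet (wd Alt.sI) :=
    Subtype.ext (hu.trans (ev_eq_of s8_chk.1.1 s8_chk.1.2).symm)
  have hv' : v = ev modelLet (wd Alt.tI) :=
    Subtype.ext (hv.trans (ev_eq_of s8_chk.2.1.1 s8_chk.2.1.2).symm)
  subst hu' hv'
  let E : Emb G := ⟨φ, inj, hC, hnc⟩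
  rcases E.quotient_cases with ⟨⟨e⟩⟩ | ⟨⟨e⟩⟩
  · exact Or.inl (E.iso_of_small e)
  · exact Or.inr (E.iso_of_large e)

end Cfsg.Agent.H80.Ext
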