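import Cfsg.Agent.H80.Ext.Kernel
import Cfsg.Agent.H80.Ext.Embedded

/-! The smaller centralizer: the group is the alternating group of degree eight. -/

set_option autoImplicit false
set_option maxRecDepth 20000

namespace Cfsg.Agent.H80.Ext

open Cfsg.Agent.H16 Cfsg.Agent.H68.J1 Cfsg.Agent.H80.Alt
open Cfsg.Agent.H68.J1.Cert (ev)

theorem V_list_chk : allL (fun a => imp (inV a) (Nat.beq a 0 || Nat.beq a 28 || Nat.beq a 48 ||
    Nat.beq a 76)) = true ∧ inV 0 = true ∧ inV 28 = true ∧ inV 48 = true ∧ inV 76 = true := by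
  refine ⟨?_, ?_, ?_, ?_, ?_⟩ <;> decide +kernel

namespace Emb

variable {G : Type*} [Group G] (E : Emb G) [Finite G]

theorem card_V : Nat.card E.V = 4 := by
  classical
  obtain ⟨hl, i0, i1, i2, i3⟩ := V_list_chk
  let r : Fin 4 → Nat := ![0, 28, 48, 76]
  have hr : ∀ i, r i < 192 := by decide +kernel
  have hrV : ∀ i, inV (r i) = true := by decide +kernel
  have hrT : ∀ i, Alt.commB (r i) Alt.tI = true := by decide +kernel
  have hinj : ∀ i j, r i = r j → i = j := by decide +kernel
  let f : Fin 4 → E.V := fun i =>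
    ⟨E.elK (r i) (hr i) (hrT i), ⟨r i, hr i, hrV i, rfl⟩⟩
  have hb : Function.Bijective f := by
    refine ⟨fun i j h => hinj i j (E.el_inj (hr i) (hr j)
      (congrArg Subtype.val (congrArg Subtype.val h))), ?_⟩
    rintro ⟨u, a, ha, hA, hau⟩
    have h := Alt.imp_spec (allL_spec hl ha) hA
    simp only [Bool.or_eq_true] at h
    have fin : ∀ i, a = r i → ∃ i, f i = ⟨u, a, ha, hA, hau⟩ := fun i e =>
      ⟨i, Subtype.ext (Subtype.ext (show E.el (r i) = (u : G) by rw [← e, hau]))⟩
    rcases h with ((h | h) | h) | h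
    · exact fin 0 (Nat.eq_of_beq_eq_true h)
    · exact fin 1 (Nat.eq_of_beq_eq_true h)
    · exact fin 2 (Nat.eq_of_beq_eq_true h)
    · exact fin 3 (Nat.eq_of_beq_eq_true h)
  rw [← Nat.card_congr (Equiv.ofBijective f hb), Nat.card_fin]

/-- If the quotient is the symmetric group of four letters, the whole group is the alternating
group of eight letters. -/
theorem iso_of_small (e : E.K ⧸ E.V ≃* Equiv.Perm (Fin 4)) :
    Nonempty (G ≃* alternatingGroup (Fin 8)) := by
  have hK : Nat.card E.K = 96 := by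
    rw [Subgroup.card_eq_card_quotient_mul_card_subgroup E.V, E.card_V, Nat.card_congr e.toEquiv,
      Nat.card_perm, Nat.card_fin]
    rfl
  set r := E.wv [0, 0, 0, 6, 5, 2, 2] with hr
  have hr3 : r ^ 3 = 1 := by
    rw [pow_succ, pow_two, hr, ← E.wv_append, ← E.wv_append]
    exact E.wv_one (by decide +kernel)
  have hr1 : r ≠ 1 := fun h => by
    have := E.inj (h.trans (map_one E.φ).symm)
    have h2 := sameWord_of_eq (u := [0, 0, 0, 6, 5, 2, 2]) (v := []) (by decide +kernel)
      (by decide +kernel) this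
    exact absurd h2 (by decide +kernel)
  have hrK : r ∈ E.K := E.mem_K.mpr (by
    show E.wv _ * E.wv (wd Alt.tI) = E.wv (wd Alt.tI) * E.wv _
    rw [← E.wv_append, ← E.wv_append]
    exact E.wv_eq (by decide +kernel))
  have h96 : 96 ∣ Nat.card (E.K ⊓ E.φ.range : Subgroup G) := by
    have h32 : 32 ∣ Nat.card (E.K ⊓ E.φ.range : Subgroup G) := by
      rw [← E.card_T]
      exact Subgroup.card_dvd_of_le fun u hu =>
        ⟨E.T_le hu, E.mem_range_of_comm (E.mem_T.mp hu).2⟩
    have h3 : 3 ∣ Nat.card (E.K ⊓ E.φ.range : Subgroup G) := by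
      haveI := Fact.mk Nat.prime_three
      have ho : orderOf r = 3 := orderOf_eq_prime hr3 hr1
      rw [← ho, ← Subgroup.orderOf_mk r (H := E.K ⊓ E.φ.range) ⟨hrK, E.wv_mem _⟩]
      exact orderOf_dvd_natCard _
    exact (Nat.Coprime.mul_dvd_of_dvd_of_dvd (by norm_num : Nat.Coprime 32 3) h32 h3)
  have hle : E.K ≤ E.φ.range := by
    have heq : E.K ⊓ E.φ.range = E.K := Subgroup.eq_of_le_of_card_ge inf_le_left
      (by rw [hK]; exact Nat.le_of_dvd Nat.card_pos h96)
    exact inf_eq_left.mp heq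
  have htop := E.eq_top_of_centralizer E.φ.range le_rfl hle
  exact ⟨(MulEquiv.ofBijective E.φ ⟨E.inj, MonoidHom.range_eq_top.mp htop⟩).symm⟩

end Emb

end Cfsg.Agent.H80.Ext
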